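import Groth.Agent.Lib.Descend.QuasiAffine
import Groth.Prelude.Def_Mor2
import Mathlib.AlgebraicGeometry.QuasiAffine

/-!
Basic closure properties of quasi-affine morphisms.
-/

universe u

open CategoryTheory CategoryTheory.Limits AlgebraicGeometry TopologicalSpace

namespace Groth.Agent.QA11

theorem isQuasiAffine_of_iso {X Y : Scheme.{u}} (f : X ⟶ Y) [IsIso f] [Y.IsQuasiAffine] : X.IsQuasiAffine :=
  Scheme.IsQuasiAffine.of_isAffineHom f

/-- A quasi-compact scheme covered by quasi-affine basic opens of global sections is quasi-affine. -/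
theorem of_forall_qa (Z : Scheme.{u}) [CompactSpace Z]
    (key : ∀ z : Z, ∃ R : Γ(Z, ⊤), z ∈ Z.basicOpen R ∧ Scheme.IsQuasiAffine (Z.basicOpen R).toScheme) :
    Z.IsQuasiAffine := by
  choose R hzR hR using key
  haveI : QuasiSeparatedSpace Z :=
    .of_isOpenCover (U := fun z => Z.basicOpen (R z))
      (eq_top_iff.mpr fun z _ => Opens.mem_iSup.mpr ⟨z, hzR z⟩)
      (fun _ => isRetrocompact_basicOpen _)
      (fun z => by
        haveI := hR z
        exact (isQuasiSeparated_iff_quasiSeparatedSpace _ (Z.basicOpen (R z)).2).mpr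
          (inferInstance : QuasiSeparatedSpace (Z.basicOpen (R z)).toScheme))
  refine Scheme.IsQuasiAffine.of_forall_exists_mem_basicOpen _ fun z => ?_
  haveI := hR z
  let B := Z.basicOpen (R z)
  obtain ⟨_, ⟨_, ⟨s, hs, rfl⟩, rfl⟩, hzs, -⟩ :=
    (Scheme.IsQuasiAffine.isBasis_basicOpen B.toScheme).exists_subset_of_mem_open
      (Set.mem_univ (⟨z, hzR z⟩ : B.toScheme)) isOpen_univ
  haveI := isLocalization_basicOpen_of_qcqs (X := Z) isCompact_univ isQuasiSeparated_univ (R z)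
  obtain ⟨a, ⟨_, n, rfl⟩, ha⟩ := IsLocalization.exists_mk'_eq (Submonoid.powers (R z)) (B.topIso.hom s)
  refine ⟨R z * a, ?_⟩
  have hB : Z.basicOpen (R z * a) = B.ι ''ᵁ B.toScheme.basicOpen s := by
    have h1 : B.topIso.inv (B.topIso.hom s) = s := by rw [← CommRingCat.comp_apply, Iso.hom_inv_id]; rfl
    rw [← h1, Scheme.Opens.ι_image_basicOpen_topIso_inv B, ← ha, Scheme.basicOpen_mul]
    have h2 := IsLocalization.mk'_spec (M := Submonoid.powers (R z)) Γ(Z, B) a ⟨(fun x => R z ^ x) n, n, rfl⟩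
    have h3 : Z.basicOpen (algebraMap Γ(Z, ⊤) Γ(Z, B) (R z ^ n)) = B := by
      apply Scheme.basicOpen_of_isUnit
      rw [map_pow]
      exact (IsLocalization.map_units Γ(Z, B) ⟨R z, Submonoid.mem_powers _⟩).pow n
    have h4 := congrArg Z.basicOpen h2
    rw [Scheme.basicOpen_mul, h3, inf_eq_left.mpr (Z.basicOpen_le _)] at h4
    rw [h4]
    exact (Scheme.basicOpen_res Z a _).symm
  rw [hB]
  exact ⟨hs.image_of_isOpenImmersion B.ι, ⟨⟨z, hzR z⟩, hzs, rfl⟩⟩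

variable {X Y Z : Scheme.{u}}

/-- An open of the source contained in a quasi-affine open, if quasi-compact, is quasi-affine. -/
theorem isQuasiAffine_of_le {U V : X.Opens} (h : U ≤ V) [Scheme.IsQuasiAffine V.toScheme]
    (hU : IsCompact (U : Set X)) : Scheme.IsQuasiAffine U.toScheme := by
  haveI : CompactSpace U.toScheme := isCompact_iff_compactSpace.mp hU
  exact Scheme.IsQuasiAffine.of_isImmersion (X.homOfLE h)

theorem isQuasiAffine_preimage (f : X ⟶ Y) (hf : Mor2.IsQuasiAffine f) (W : Y.Opens)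
    [Scheme.IsQuasiAffine W.toScheme] : Scheme.IsQuasiAffine (f ⁻¹ᵁ W).toScheme := by
  haveI : QuasiCompact f := hf.1
  haveI : CompactSpace (f ⁻¹ᵁ W).toScheme := QuasiCompact.compactSpace_of_compactSpace (f ∣_ W)
  refine of_forall_qa _ fun z => ?_
  obtain ⟨_, ⟨_, ⟨r, hr, rfl⟩, rfl⟩, hzr, -⟩ :=
    (Scheme.IsQuasiAffine.isBasis_basicOpen W.toScheme).exists_subset_of_mem_open
      (Set.mem_univ ((f ∣_ W) z)) isOpen_univ
  refine ⟨(f ∣_ W).appTop r, ?_, ?_⟩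
  · rw [← Scheme.preimage_basicOpen_top]; exact hzr
  · haveI : Scheme.IsQuasiAffine (f ⁻¹ᵁ (W.ι ''ᵁ W.toScheme.basicOpen r)).toScheme :=
      hf.2 _ (hr.image_of_isOpenImmersion W.ι)
    rw [← Scheme.preimage_basicOpen_top]
    haveI : IsIso (((f ⁻¹ᵁ W).ι.isoImage ((f ∣_ W) ⁻¹ᵁ W.toScheme.basicOpen r)).hom) := inferInstance
    have e : (f ⁻¹ᵁ W).ι ''ᵁ ((f ∣_ W) ⁻¹ᵁ W.toScheme.basicOpen r) = f ⁻¹ᵁ (W.ι ''ᵁ W.toScheme.basicOpen r) :=
      image_morphismRestrict_preimage f W _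
    haveI : Scheme.IsQuasiAffine ((f ⁻¹ᵁ W).ι ''ᵁ ((f ∣_ W) ⁻¹ᵁ W.toScheme.basicOpen r)).toScheme := by
      rw [e]; infer_instance
    exact isQuasiAffine_of_iso ((f ⁻¹ᵁ W).ι.isoImage ((f ∣_ W) ⁻¹ᵁ W.toScheme.basicOpen r)).hom

theorem comp {f : X ⟶ Y} {g : Y ⟶ Z} (hf : Mor2.IsQuasiAffine f) (hg : Mor2.IsQuasiAffine g) :
    Mor2.IsQuasiAffine (f ≫ g) := by
  haveI := hf.1
  haveI := hg.1
  refine ⟨inferInstance, fun V hV => ?_⟩
  haveI := hg.2 V hV
  exact isQuasiAffine_preimage f hf (g ⁻¹ᵁ V)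

theorem baseChange {Y' : Scheme.{u}} {f : X ⟶ Y} (hf : Mor2.IsQuasiAffine f) (g : Y' ⟶ Y) :
    Mor2.IsQuasiAffine (pullback.snd f g) := by
  haveI := hf.1
  let J := {W : Y'.Opens // IsAffineOpen W ∧ ∃ V : Y.Opens, IsAffineOpen V ∧ W ≤ g ⁻¹ᵁ V}
  refine Descend.isQuasiAffine_of_cover (pullback.snd f g) (fun j : J => j.1) (fun y => ?_) fun ⟨W, hW, V, hV, hWV⟩ => ?_
  · obtain ⟨V, hV, hy, -⟩ := exists_isAffineOpen_mem_and_subset (U := (⊤ : Y.Opens)) (x := g y) trivial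
    obtain ⟨W, hW, hyW, hWV⟩ := exists_isAffineOpen_mem_and_subset (U := g ⁻¹ᵁ V) (x := y) hy
    exact ⟨⟨W, hW, V, hV, hWV⟩, hyW⟩
  · haveI := hf.2 V hV
    haveI : IsAffine W.toScheme := hW
    haveI : IsAffine V.toScheme := hV
    let P := pullback.snd f g
    have hle : P ⁻¹ᵁ W ≤ pullback.fst f g ⁻¹ᵁ (f ⁻¹ᵁ V) := fun z hz => by
      show f (pullback.fst f g z) ∈ V
      rw [← Scheme.Hom.comp_apply, pullback.condition, Scheme.Hom.comp_apply]
      exact hWV hz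
    let a : (P ⁻¹ᵁ W).toScheme ⟶ (f ⁻¹ᵁ V).toScheme :=
      (pullback.fst f g).resLE (f ⁻¹ᵁ V) (P ⁻¹ᵁ W) hle
    have h1 : IsPullback a (P ∣_ W) (f ∣_ V) (g.resLE V W hWV) := by
      refine IsPullback.of_right ?_ ?_ (isPullback_morphismRestrict f V).flip
      · rw [Scheme.Hom.resLE_comp_ι, Scheme.Hom.resLE_comp_ι]
        exact (isPullback_morphismRestrict P W).flip.paste_horiz (IsPullback.of_hasPullback f g)
      · rw [← cancel_mono V.ι]
        simp only [a, Category.assoc, morphismRestrict_ι, Scheme.Hom.resLE_comp_ι, Scheme.Hom.resLE_comp_ι_assoc,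
          morphismRestrict_ι_assoc, pullback.condition, P]
    haveI : IsAffineHom (g.resLE V W hWV) := inferInstance
    haveI : IsAffineHom a := MorphismProperty.of_isPullback (P := @IsAffineHom) h1.flip inferInstance
    exact Scheme.IsQuasiAffine.of_isAffineHom a

theorem of_comp {f : X ⟶ Y} {g : Y ⟶ Z} [QuasiSeparated g] (h : Mor2.IsQuasiAffine (f ≫ g)) :
    Mor2.IsQuasiAffine f := by
  haveI := h.1
  haveI : QuasiCompact f := QuasiCompact.of_comp f g
  let J := {W : Y.Opens // IsAffineOpen W ∧ ∃ V : Z.Opens, IsAffineOpen V ∧ W ≤ g ⁻¹ᵁ V}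
  refine Descend.isQuasiAffine_of_cover f (fun j : J => j.1) (fun y => ?_) fun ⟨W, hW, V, hV, hWV⟩ => ?_
  · obtain ⟨V, hV, hy, -⟩ := exists_isAffineOpen_mem_and_subset (U := (⊤ : Z.Opens)) (x := g y) trivial
    obtain ⟨W, hW, hyW, hWV⟩ := exists_isAffineOpen_mem_and_subset (U := g ⁻¹ᵁ V) (x := y) hy
    exact ⟨⟨W, hW, V, hV, hWV⟩, hyW⟩
  · haveI := h.2 V hV
    exact isQuasiAffine_of_le (V := (f ≫ g) ⁻¹ᵁ V) (fun z hz => hWV hz)
      (f.isCompact_preimage hW.isCompact)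

theorem of_isEmbedding (f : X ⟶ Y) [QuasiCompact f] (hf : Topology.IsEmbedding f.base) :
    Mor2.IsQuasiAffine f := by
  refine ⟨inferInstance, fun V hV => ?_⟩
  haveI : CompactSpace (f ⁻¹ᵁ V).toScheme := isCompact_iff_compactSpace.mp (f.isCompact_preimage hV.isCompact)
  refine of_forall_qa _ fun z => ?_
  obtain ⟨U, hU, hzU, hUV⟩ := exists_isAffineOpen_mem_and_subset (U := f ⁻¹ᵁ V) (x := z.1) z.2
  obtain ⟨O, hO, hOU⟩ := hf.isInducing.isOpen_iff.1 U.isOpen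
  have hzO : f z.1 ∈ O := by
    have : z.1 ∈ f.base ⁻¹' O := by rw [hOU]; exact hzU
    exact this
  obtain ⟨r, hr, hzr⟩ := hV.exists_basicOpen_le (V := ⟨O, hO⟩) ⟨f z.1, hzO⟩ z.2
  refine ⟨(f ∣_ V).appTop (V.topIso.inv r), ?_, ?_⟩
  · have : (f ∣_ V) z ∈ V.toScheme.basicOpen (V.topIso.inv r) := by
      have h1 : V.ι ((f ∣_ V) z) ∈ Y.basicOpen r := by
        rw [← Scheme.Hom.comp_apply, morphismRestrict_ι, Scheme.Hom.comp_apply]; exact hzr
      rw [← Scheme.Opens.ι_image_basicOpen_topIso_inv] at h1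
      obtain ⟨w, hw, hwe⟩ := h1
      rwa [V.ι.isEmbedding.injective hwe] at hw
    rw [← Scheme.preimage_basicOpen_top]; exact this
  · have e : (f ⁻¹ᵁ V).ι ''ᵁ ((f ⁻¹ᵁ V).toScheme.basicOpen ((f ∣_ V).appTop (V.topIso.inv r))) =
        f ⁻¹ᵁ Y.basicOpen r := by
      rw [← Scheme.preimage_basicOpen_top, image_morphismRestrict_preimage,
        Scheme.Opens.ι_image_basicOpen_topIso_inv]
    have hle : f ⁻¹ᵁ Y.basicOpen r ≤ U := fun w hw => by
      have hw' : w ∈ f.base ⁻¹' O := hr hw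
      rw [hOU] at hw'; exact hw'
    have hA : IsAffineOpen (f ⁻¹ᵁ Y.basicOpen r) := by
      have : f ⁻¹ᵁ Y.basicOpen r = X.basicOpen (f.appLE V U hUV r) := by
        rw [Scheme.basicOpen_appLE]
        exact (inf_eq_right.mpr hle).symm
      rw [this]
      exact hU.basicOpen _
    rw [← e] at hA
    haveI : IsAffine _ := hA
    exact isQuasiAffine_of_iso ((f ⁻¹ᵁ V).ι.isoImage _).hom

end Groth.Agent.QA11
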